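import Mathlib
import Groth.Agent.QuotRepLib.KernelPair
import Groth.Agent.AlgSpLib.FpqcMore

/-!
# Quasi-finite atlases of quotients by flat kernel pairs
-/

set_option autoImplicit false
set_option backward.isDefEq.respectTransparency false
set_option maxHeartbeats 1600000

universe u

open CategoryTheory CategoryTheory.Limits MonoidalCategory CartesianMonoidalCategory AlgebraicGeometry Opposite
open AlgSp AlgSpLib Groth.Agent.QuotRep

noncomputable section

namespace Groth.Agent.MonoQuot

/-- Quasi-finiteness descends from the kernel pair. -/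
theorem lqf_of_snd {U Y : Scheme.{u}} (p : U ⟶ Y) [LocallyQuasiFinite (pullback.snd p p)]
    [LocallyOfFiniteType p] : LocallyQuasiFinite p := by
  refine (locallyQuasiFinite_iff_isDiscrete_preimage_singleton (f := p)).mpr fun y => ?_
  suffices h : LocallyQuasiFinite (p.fiberToSpecResidueField y) by
    have hd : DiscreteTopology ↥(p.fiber y) := by
      rw [← isDiscrete_univ_iff, show (Set.univ : Set ↥(p.fiber y)) =
        (p.fiberToSpecResidueField y).base ⁻¹' {default} from
          (Set.eq_univ_of_forall fun z => Subsingleton.elim _ _).symm]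
      exact (p.fiberToSpecResidueField y).isDiscrete_preimage_singleton _
    rw [← p.range_fiberι y, ← Set.image_univ]
    exact (isDiscrete_univ_iff.mpr hd).image (p.fiberι y).isEmbedding.toIsInducing
  by_cases hy : y ∈ Set.range p.base
  · obtain ⟨x, rfl⟩ := hy
    let L := U.fromSpecResidueField x
    let φ := Spec.map (p.residueFieldMap x)
    have hφ : φ ≫ Y.fromSpecResidueField (p.base x) = L ≫ p :=
      Scheme.Hom.SpecMap_residueFieldMap_fromSpecResidueField p x
    haveI : Surjective φ := ⟨fun z => ⟨default, Subsingleton.elim _ _⟩⟩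
    haveI : QuasiCompact φ := inferInstance
    haveI : Flat φ := inferInstance
    haveI : LocallyQuasiFinite (pullback.snd p (L ≫ p)) := by
      let c : pullback p (L ≫ p) ⟶ pullback p p :=
        pullback.lift (pullback.fst _ _) (pullback.snd _ _ ≫ L) (by rw [Category.assoc]; exact pullback.condition)
      have sq : IsPullback (pullback.snd p (L ≫ p)) c L (pullback.snd p p) := by
        refine (IsPullback.of_right (h₁₁ := c) (h₁₂ := pullback.fst p p) (v₁₃ := p) (h₂₂ := p) ?_
          (pullback.lift_snd _ _ _) (IsPullback.of_hasPullback p p)).flip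
        rw [pullback.lift_fst]; exact IsPullback.of_hasPullback p (L ≫ p)
      exact MorphismProperty.of_isPullback (P := @LocallyQuasiFinite) sq.flip ‹_›
    let c : pullback p (L ≫ p) ⟶ p.fiber (p.base x) :=
      pullback.lift (pullback.fst _ _) (pullback.snd _ _ ≫ φ)
        (by rw [Category.assoc, hφ]; exact pullback.condition)
    have sq : IsPullback (pullback.snd p (L ≫ p)) c φ (p.fiberToSpecResidueField (p.base x)) := by
      refine (IsPullback.of_right (h₁₁ := c) (h₁₂ := p.fiberι (p.base x)) (v₁₃ := p)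
        (h₂₂ := Y.fromSpecResidueField (p.base x)) ?_ (pullback.lift_snd _ _ _)
        (IsPullback.of_hasPullback p _)).flip
      rw [show c ≫ p.fiberι (p.base x) = pullback.fst p (L ≫ p) from pullback.lift_fst _ _ _, hφ]
      exact IsPullback.of_hasPullback p (L ≫ p)
    exact MorphismProperty.of_isPullback_of_descendsAlong (P := @LocallyQuasiFinite)
      (Q := @Surjective ⊓ @Flat ⊓ @QuasiCompact) sq ⟨⟨‹_›, ‹_›⟩, ‹_›⟩ inferInstance
  · haveI : IsEmpty ↥(p.fiber y) := ⟨fun z => hy ⟨(p.fiberι y).base z, by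
      have h : (p.fiberι y).base z ∈ p.base ⁻¹' {y} := by rw [← p.range_fiberι y]; exact ⟨z, rfl⟩
      exact h⟩⟩
    infer_instance

variable {Y : Scheme.{u}} (X : Over Y)

/-- The kernel pair of the structure map. -/
abbrev ker₂ : IsEqvRel (snd X X) (fst X X) :=
  ⟨fun T r r' h1 h2 => CartesianMonoidalCategory.hom_ext _ _ h1 h2,
    fun T => ⟨fun x => ⟨lift x x, lift_fst _ _, lift_snd _ _⟩,
      fun {x y} _ => ⟨lift y x, lift_fst _ _, lift_snd _ _⟩,
      fun {x y z} _ _ => ⟨lift x z, lift_fst _ _, lift_snd _ _⟩⟩⟩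

/-- The quotient sheaf by the kernel pair. -/
abbrev Img : Sp Y := QuotSh.quot Scheme.fppfPrecoverage (snd X X) (fst X X)

/-- The quotient is a subsheaf of the base. -/
theorem eq_of_map_img {T : Over Y} (a b : (yon Y).obj T ⟶ Img X) : a = b := by
  obtain ⟨T₁, q₁, c, _, _, _, hc⟩ := exists_single_lift (qπ (snd X X) (fst X X)) a
  obtain ⟨T₂, q₂, d, _, _, _, hd⟩ := exists_single_lift (qπ (snd X X) (fst X X)) ((yon Y).map q₁ ≫ b)
  obtain ⟨c, rfl⟩ := (yon Y).map_surjective c
  obtain ⟨d, rfl⟩ := (yon Y).map_surjective d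
  haveI := epi_map_of_fppf q₁
  haveI := epi_map_of_fppf q₂
  rw [← cancel_epi ((yon Y).map q₁), ← hc, ← cancel_epi ((yon Y).map q₂), ← hd, ← Category.assoc,
    ← Functor.map_comp]
  exact (map_π_eq_iff (ker₂ X) _ _).mpr ⟨lift (q₂ ≫ c) d, lift_fst _ _, lift_snd _ _⟩


/-- A quasi-finite atlas of the quotient. -/
theorem exists_lqf_atlas [LocallyOfFiniteType X.hom] [Flat (pullback.snd X.hom X.hom)]
    [LocallyOfFinitePresentation (pullback.snd X.hom X.hom)] :
    ∃ (U : Over Y) (a : (yon Y).obj U ⟶ Img X), Sheaf.IsLocallySurjective a ∧ LocallyOfFiniteType U.hom ∧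
      LocallyQuasiFinite U.hom ∧ Flat (pullback.snd U.hom U.hom) ∧
      LocallyOfFinitePresentation (pullback.snd U.hom U.hom) := by
  haveI : Flat (snd X X).left := ‹Flat (pullback.snd X.hom X.hom)›
  haveI : LocallyOfFinitePresentation (snd X X).left := ‹LocallyOfFinitePresentation (pullback.snd X.hom X.hom)›
  obtain ⟨e, he, het⟩ := exists_inverse_iso (ker₂ X)
  haveI := he
  haveI : Flat (fst X X).left := by rw [← het]; infer_instance
  haveI : LocallyOfFinitePresentation (fst X X).left := by rw [← het]; infer_instance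
  obtain ⟨U', g, hg, hhf, hhp, hhq, hhs⟩ := QFSectLib.exists_qf_slices (isRel_of_isEqvRel (ker₂ X))
  let φ := pullback.snd g (fst X X).left ≫ (snd X X).left
  have sq : IsPullback φ (pullback.fst g (fst X X).left) X.hom (g ≫ X.hom) :=
    (IsPullback.of_hasPullback g (fst X X).left).flip.paste_horiz (IsPullback.of_hasPullback X.hom X.hom).flip
  let U : Over Y := Over.mk (g ≫ X.hom)
  let gU : U ⟶ X := Over.homMk g rfl
  haveI : LocallyOfFiniteType U.hom := inferInstanceAs (LocallyOfFiniteType (g ≫ X.hom))
  haveI : Flat φ := hhf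
  haveI : LocallyOfFinitePresentation φ := hhp
  haveI : LocallyQuasiFinite φ := hhq
  -- the base change of the slice along itself
  let c : pullback U.hom U.hom ⟶ pullback g (fst X X).left :=
    sq.lift (pullback.snd _ _ ≫ g) (pullback.fst _ _) (by rw [Category.assoc]; exact pullback.condition.symm)
  have sqU : IsPullback c (pullback.snd U.hom U.hom) φ g := by
    refine IsPullback.of_right (h₁₂ := pullback.fst g (fst X X).left) (v₁₃ := g ≫ X.hom) (h₂₂ := X.hom) ?_
      (sq.lift_fst _ _ _) sq.flip
    rw [sq.lift_snd]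
    exact IsPullback.of_hasPullback U.hom U.hom
  haveI : Flat (pullback.snd U.hom U.hom) := MorphismProperty.of_isPullback (P := @Flat) sqU ‹_›
  haveI : LocallyOfFinitePresentation (pullback.snd U.hom U.hom) :=
    MorphismProperty.of_isPullback (P := @LocallyOfFinitePresentation) sqU ‹_›
  haveI : LocallyQuasiFinite (pullback.snd U.hom U.hom) :=
    MorphismProperty.of_isPullback (P := @LocallyQuasiFinite) sqU ‹_›
  refine ⟨U, (yon Y).map gU ≫ qπ (snd X X) (fst X X), ?_, inferInstance, lqf_of_snd U.hom,
    inferInstance, inferInstance⟩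
  -- local surjectivity
  let P : Over Y := Over.mk (φ ≫ X.hom)
  let φo : P ⟶ X := Over.homMk φ rfl
  let p₁ : P ⟶ U := Over.homMk (pullback.fst g (fst X X).left) sq.w.symm
  haveI : Surjective φo.left := hhs
  haveI : Flat φo.left := hhf
  haveI : LocallyOfFinitePresentation φo.left := hhp
  haveI := isLocallySurjective_yon_map φo
  have e1 : (yon Y).map φo ≫ qπ (snd X X) (fst X X) =
      (yon Y).map p₁ ≫ (yon Y).map gU ≫ qπ (snd X X) (fst X X) := eq_of_map_img X _ _
  haveI : Sheaf.IsLocallySurjective ((yon Y).map φo ≫ qπ (snd X X) (fst X X)) := inferInstance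
  rw [e1] at this
  haveI : Presheaf.IsLocallySurjective (AlgSp.J Y) (((yon Y).map p₁).hom ≫
      ((yon Y).map gU ≫ qπ (snd X X) (fst X X)).hom) := this
  exact Presheaf.isLocallySurjective_of_isLocallySurjective (AlgSp.J Y) ((yon Y).map p₁).hom ((yon Y).map gU ≫ qπ (snd X X) (fst X X)).hom

end Groth.Agent.MonoQuot
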