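import Mathlib
import Groth.Agent.MonoQuotLib.Atlas
import Groth.Agent.QuotRepLib.Finite
import Groth.Agent.QuotRepLib.Saturate
import Groth.Agent.AlgSpLib.SepLqfScheme
import Groth.Agent.AlgSpLib.AffineDescent
import Groth.Agent.S0114
import Groth.Agent.S4091

/-!
# Étale charts of quotients by flat kernel pairs
-/

set_option autoImplicit false
set_option backward.isDefEq.respectTransparency false
set_option maxHeartbeats 3200000

universe u

open CategoryTheory CategoryTheory.Limits MonoidalCategory CartesianMonoidalCategory AlgebraicGeometry Opposite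
open AlgSp AlgSpLib Groth.Agent.QuotRep

noncomputable section

namespace Groth.Agent.MonoQuot

/-- Properties of the kernel pair projection are stable under base change. -/
theorem selfPullback_snd (P : MorphismProperty Scheme.{u}) [P.IsStableUnderBaseChange] {U U' B B' : Scheme.{u}}
    {p : U ⟶ B} {p' : U' ⟶ B'} {a : U' ⟶ U} {b : B' ⟶ B} (sq : IsPullback a p' p b)
    (h : P (pullback.snd p p)) : P (pullback.snd p' p') := by
  let k : pullback p' p' ⟶ pullback p p := pullback.map p' p' p p a a b sq.w.symm sq.w.symm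
  have h1 : IsPullback (pullback.fst p' p' ≫ a) (pullback.snd p' p') p (p' ≫ b) :=
    (IsPullback.of_hasPullback p' p').paste_horiz sq
  rw [← sq.w] at h1
  have h2 : IsPullback k (pullback.snd p' p') (pullback.snd p p) a :=
    IsPullback.of_right (h₁₂ := pullback.fst p p) (v₁₃ := p) (h₂₂ := p)
      (by rw [pullback.lift_fst]; exact h1) (pullback.lift_snd _ _ _) (IsPullback.of_hasPullback p p)
  exact MorphismProperty.of_isPullback h2 h

variable {Y : Scheme.{u}} {X : Over Y}

/-- Maps into the quotient form squares with products. -/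
theorem isPullback_img {A B : Over Y} (p : (yon Y).obj A ⟶ Img X) (q : (yon Y).obj B ⟶ Img X) :
    IsPullback ((yon Y).map (fst A B)) ((yon Y).map (snd A B)) p q := by
  refine isPullback_of_forall_existsUnique (eq_of_map_img X _ _) fun T a b _ => ?_
  obtain ⟨a, rfl⟩ := (yon Y).map_surjective a
  obtain ⟨b, rfl⟩ := (yon Y).map_surjective b
  refine ⟨(yon Y).map (lift a b), ⟨by rw [← Functor.map_comp, lift_fst], by rw [← Functor.map_comp, lift_snd]⟩,
    fun l hl => ?_⟩
  obtain ⟨l, rfl⟩ := (yon Y).map_surjective l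
  rw [← Functor.map_comp, ← Functor.map_comp] at hl
  exact congrArg _ (CartesianMonoidalCategory.hom_ext _ _
    (by rw [lift_fst]; exact (yon Y).map_injective hl.1) (by rw [lift_snd]; exact (yon Y).map_injective hl.2))

/-- An etale chart through a point of a quasi-finite atlas. -/
theorem exists_chart {U : Over Y} (a : (yon Y).obj U ⟶ Img X) [Sheaf.IsLocallySurjective a]
    [LocallyOfFiniteType U.hom] [LocallyQuasiFinite U.hom] [Flat (pullback.snd U.hom U.hom)]
    [LocallyOfFinitePresentation (pullback.snd U.hom U.hom)] (x : U.left) :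
    ∃ (M : Over Y) (e : (yon Y).obj M ⟶ Img X), RepWith @Etale e ∧ LocallyOfFiniteType M.hom ∧
      ∃ z : (M ⊗ U).left, (snd M U).left.base z = x := by
  obtain ⟨O, hO, hxO, -⟩ :=
    exists_isAffineOpen_mem_and_subset (X := Y) (x := U.hom.base x) (U := ⊤) trivial
  obtain ⟨U₀, hU₀, hxU₀, hle⟩ :=
    exists_isAffineOpen_mem_and_subset (X := U.left) (x := x) (U := U.hom ⁻¹ᵁ O) hxO
  let To : Over Y := Over.mk O.ι
  let Uo : Over Y := Over.mk (U₀.ι ≫ U.hom)
  let u : Uo ⟶ To := Over.homMk (U.hom.resLE O U₀ hle) (Scheme.Hom.resLE_comp_ι _ _)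
  haveI : IsAffine To.left := hO
  haveI : IsAffine Uo.left := hU₀
  haveI : LocallyOfFiniteType Uo.hom := inferInstanceAs (LocallyOfFiniteType (U₀.ι ≫ U.hom))
  haveI hu : LocallyOfFiniteType u.left := by
    haveI : LocallyOfFiniteType (u.left ≫ O.ι) := by rw [show u.left ≫ O.ι = Uo.hom from Over.w u]; infer_instance
    exact locallyOfFiniteType_of_comp u.left O.ι
  haveI : LocallyQuasiFinite u.left := by
    haveI : LocallyQuasiFinite (u.left ≫ O.ι) := by
      rw [show u.left ≫ O.ι = Uo.hom from Over.w u]; exact inferInstanceAs (LocallyQuasiFinite (U₀.ι ≫ U.hom))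
    exact LocallyQuasiFinite.of_comp u.left O.ι
  obtain ⟨T', e, hT', he, V, w, hwV, hfin, hw⟩ := exists_finite_open_baseChange u (⟨x, hxU₀⟩ : U₀.toScheme)
  haveI := hT'; haveI := he
  let pT : pullback U.hom T'.hom ⟶ T'.left := pullback.snd _ _
  let prU : pullback U.hom T'.hom ⟶ U.left := pullback.fst _ _
  have sqPT : IsPullback prU pT U.hom T'.hom := IsPullback.of_hasPullback _ _
  -- the piece
  let P₀ : Over Y := pullback u e
  have hlw : (pullback.fst u e).left ≫ U₀.ι ≫ U.hom = (pullback.snd u e).left ≫ T'.hom :=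
    (Over.w (pullback.fst u e)).trans (Over.w (pullback.snd u e)).symm
  let j₀ : P₀.left ⟶ pullback U.hom T'.hom :=
    pullback.lift ((pullback.fst u e).left ≫ U₀.ι) (pullback.snd u e).left (by rw [Category.assoc]; exact hlw)
  have sqj : IsPullback (pullback.fst u e).left j₀ U₀.ι prU := by
    have hA := QFSectLib.isPullback_comp_mono (left_isPullback u e) O.ι
    rw [show u.left ≫ O.ι = U₀.ι ≫ U.hom from Over.w u, show e.left ≫ O.ι = T'.hom from Over.w e] at hA
    exact (IsPullback.of_right (h₁₁ := j₀) (h₁₂ := pT) (v₁₁ := (pullback.fst u e).left) (v₁₂ := prU)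
      (h₂₁ := U₀.ι) (h₂₂ := U.hom) (v₁₃ := T'.hom) (by rw [pullback.lift_snd]; exact hA.flip)
      (pullback.lift_fst _ _ _) sqPT.flip).flip
  haveI : IsOpenImmersion j₀ := MorphismProperty.of_isPullback (P := @IsOpenImmersion) sqj inferInstance
  let W : Over Y := Over.mk ((V.ι ≫ (pullback.snd u e).left) ≫ T'.hom)
  let c : W ⟶ T' := Over.homMk (V.ι ≫ (pullback.snd u e).left) rfl
  haveI : IsFinite c.left := hfin
  haveI : IsAffine W.left := isAffine_of_isAffineHom c.left
  let j : W.left ⟶ pullback U.hom T'.hom := V.ι ≫ j₀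
  haveI : IsOpenImmersion j := inferInstanceAs (IsOpenImmersion (V.ι ≫ j₀))
  have hj : j ≫ pT = c.left := by
    show (V.ι ≫ j₀) ≫ pullback.snd _ _ = V.ι ≫ _
    rw [Category.assoc, pullback.lift_snd]
  let r : W ⟶ U := Over.homMk (j ≫ prU) (by
    show (j ≫ prU) ≫ U.hom = c.left ≫ T'.hom
    rw [Category.assoc, sqPT.w, reassoc_of% hj])
  -- flatness of the kernel pair of the piece
  have hPP1 : Flat (pullback.snd pT pT) := selfPullback_snd @Flat sqPT ‹_›
  have hPP2 : LocallyOfFinitePresentation (pullback.snd pT pT) :=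
    selfPullback_snd @LocallyOfFinitePresentation sqPT ‹_›
  let k : pullback c.left pT ⟶ pullback pT pT :=
    pullback.map c.left pT pT pT j (𝟙 _) (𝟙 _) (by rw [Category.comp_id, hj]) rfl
  have sqk : IsPullback k (pullback.fst c.left pT) (pullback.fst pT pT) j := by
    refine IsPullback.of_right (h₁₂ := pullback.snd pT pT) (v₁₃ := pT) (h₂₂ := pT) ?_
      (pullback.lift_fst _ _ _) (IsPullback.of_hasPullback pT pT).flip
    rw [hj, show k ≫ pullback.snd pT pT = pullback.snd c.left pT from
      (pullback.lift_snd _ _ _).trans (Category.comp_id _)]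
    exact (IsPullback.of_hasPullback c.left pT).flip
  haveI : IsOpenImmersion k := MorphismProperty.of_isPullback (P := @IsOpenImmersion) sqk.flip ‹_›
  have hk : k ≫ pullback.snd pT pT = pullback.snd c.left pT := (pullback.lift_snd _ _ _).trans (Category.comp_id _)
  haveI := hPP1; haveI := hPP2
  haveI hWP1 : Flat (pullback.snd c.left pT) := by rw [← hk]; infer_instance
  haveI hWP2 : LocallyOfFinitePresentation (pullback.snd c.left pT) := by rw [← hk]; infer_instance
  let k' : pullback c.left c.left ⟶ pullback c.left pT :=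
    pullback.map c.left c.left c.left pT (𝟙 _) j (𝟙 _) rfl (by rw [Category.comp_id, hj])
  have sqk' : IsPullback k' (pullback.snd c.left c.left) (pullback.snd c.left pT) j := by
    refine IsPullback.of_right (h₁₂ := pullback.fst c.left pT) (v₁₃ := c.left) (h₂₂ := pT) ?_
      (pullback.lift_snd _ _ _) (IsPullback.of_hasPullback c.left pT)
    rw [hj, show k' ≫ pullback.fst c.left pT = pullback.fst c.left c.left from
      (pullback.lift_fst _ _ _).trans (Category.comp_id _)]
    exact IsPullback.of_hasPullback c.left c.left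
  haveI : Flat (pullback.snd c.left c.left) := MorphismProperty.of_isPullback (P := @Flat) sqk' hWP1
  haveI : LocallyOfFinitePresentation (pullback.snd c.left c.left) :=
    MorphismProperty.of_isPullback (P := @LocallyOfFinitePresentation) sqk' hWP2
  -- the quotient of the piece
  let R' : Over Y := Over.mk (pullback.fst c.left c.left ≫ W.hom)
  let tW : R' ⟶ W := Over.homMk (pullback.fst c.left c.left) rfl
  let sW : R' ⟶ W := Over.homMk (pullback.snd c.left c.left) (by
    show pullback.snd c.left c.left ≫ W.hom = pullback.fst c.left c.left ≫ W.hom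
    rw [← Over.w c, ← pullback.condition_assoc])
  have sqW : IsPullback ((yon Y).map tW) ((yon Y).map sW) ((yon Y).map c) ((yon Y).map c) :=
    (isPullback_over (a := tW) (b := sW) (c := c) (d := c) (IsPullback.of_hasPullback c.left c.left)).map (yon Y)
  have hR := isEqvRel_of_isPullback sqW
  haveI : Flat sW.left := inferInstanceAs (Flat (pullback.snd c.left c.left))
  haveI : LocallyOfFinitePresentation sW.left :=
    inferInstanceAs (LocallyOfFinitePresentation (pullback.snd c.left c.left))
  haveI : IsFinite sW.left := inferInstanceAs (IsFinite (pullback.snd c.left c.left))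
  obtain ⟨i, hi, hit⟩ := exists_inverse_iso hR
  haveI := hi
  haveI : Flat tW.left := by rw [← hit]; infer_instance
  haveI : LocallyOfFinitePresentation tW.left := by rw [← hit]; infer_instance
  haveI : IsFinite tW.left := by rw [← hit]; infer_instance
  obtain ⟨M, m, sqm, hm1, hm2, hm3⟩ := exists_quotient_of_isRepSh hR
    (isRepSh_of_finite_relation (isPullback_qπ sW tW hR) fun _ => ⟨⊤, isAffineOpen_top _, fun _ _ => trivial⟩)
  haveI := hm1; haveI := hm2; haveI := hm3
  haveI := isLocallySurjective_yon_map m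
  haveI := epi_map_of_fppf m
  obtain ⟨cM, hcM⟩ := exists_desc ((yon Y).map m) ((yon Y).map c) fun T b b' h => by
    obtain ⟨b, rfl⟩ := (yon Y).map_surjective b
    obtain ⟨b', rfl⟩ := (yon Y).map_surjective b'
    rw [← Functor.map_comp, ← Functor.map_comp] at h
    obtain ⟨l, h1, h2⟩ : ∃ l, l ≫ tW = b ∧ l ≫ sW = b' :=
      ⟨_, sqm.lift_fst _ _ ((yon Y).map_injective h), sqm.lift_snd _ _ ((yon Y).map_injective h)⟩
    rw [← h1, ← h2, (yon Y).map_comp l tW, (yon Y).map_comp l sW, Category.assoc, Category.assoc, sqW.w]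
  obtain ⟨cM, rfl⟩ := (yon Y).map_surjective cM
  have hmc : m ≫ cM = c := (yon Y).map_injective (by rw [Functor.map_comp]; exact hcM)
  haveI : Mono cM := ⟨fun {T} a b h => mono_of_kernelPair sqm.w sqW hcM
    (by rw [← Functor.map_comp, ← Functor.map_comp, h])⟩
  haveI : Mono cM.left := inferInstanceAs (Mono ((Over.forget Y).map cM))
  haveI : IsFinite m.left :=
    MorphismProperty.of_isPullback_of_descendsAlong (P := @IsFinite)
      (Q := @Surjective ⊓ @Flat ⊓ @LocallyOfFinitePresentation) (sqm.map (Over.forget Y)) ⟨⟨hm2, hm1⟩, hm3⟩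
      (inferInstanceAs (IsFinite tW.left))
  have hmcl : m.left ≫ cM.left = c.left := congrArg Over.Hom.left hmc
  haveI : LocallyOfFiniteType cM.left :=
    ((Groth.Agent.S4091.result m.left cM.left).1 (by rw [hmcl]; exact ⟨inferInstance, inferInstance⟩)).1
  obtain ⟨e', -⟩ := exists_desc ((yon Y).map m) ((yon Y).map r ≫ a) fun _ _ _ _ => eq_of_map_img X _ _
  -- the chart is etale
  let kM : pullback c.left pT ⟶ pullback cM.left pT :=
    pullback.map c.left pT cM.left pT m.left (𝟙 _) (𝟙 _) (by rw [Category.comp_id, hmcl]) rfl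
  have sqM : IsPullback kM (pullback.fst c.left pT) (pullback.fst cM.left pT) m.left := by
    refine IsPullback.of_right (h₁₂ := pullback.snd cM.left pT) (v₁₃ := pT) (h₂₂ := cM.left) ?_
      (pullback.lift_fst _ _ _) (IsPullback.of_hasPullback cM.left pT).flip
    rw [hmcl, show kM ≫ pullback.snd cM.left pT = pullback.snd c.left pT from
      (pullback.lift_snd _ _ _).trans (Category.comp_id _)]
    exact (IsPullback.of_hasPullback c.left pT).flip
  haveI : Flat kM := MorphismProperty.of_isPullback (P := @Flat) sqM.flip hm1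
  haveI : LocallyOfFinitePresentation kM :=
    MorphismProperty.of_isPullback (P := @LocallyOfFinitePresentation) sqM.flip hm3
  haveI : Surjective kM := MorphismProperty.of_isPullback (P := @Surjective) sqM.flip hm2
  have hkM : kM ≫ pullback.snd cM.left pT = pullback.snd c.left pT :=
    (pullback.lift_snd _ _ _).trans (Category.comp_id _)
  haveI : Flat (kM ≫ pullback.snd cM.left pT) := by rw [hkM]; infer_instance
  haveI : Flat (pullback.snd cM.left pT) := flat_of_comp_surjective kM _
  haveI : LocallyOfFinitePresentation (kM ≫ pullback.snd cM.left pT) := by rw [hkM]; infer_instance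
  haveI : LocallyOfFinitePresentation (pullback.snd cM.left pT) := Groth.Agent.S0114.result kM _
  haveI : IsOpenImmersion (pullback.snd cM.left pT) := IsOpenImmersion.of_flat_of_mono _
  haveI : Etale T'.hom := by rw [← Over.w e]; exact inferInstanceAs (Etale (e.left ≫ O.ι))
  haveI : IsSeparated T'.hom := by
    rw [← Over.w e]; exact inferInstanceAs (IsSeparated (e.left ≫ O.ι))
  have sqMU : IsPullback (pullback.fst cM.left pT) (pullback.snd cM.left pT ≫ prU) (cM.left ≫ T'.hom) U.hom :=
    (IsPullback.of_hasPullback cM.left pT).paste_vert sqPT.flip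
  rw [Over.w cM] at sqMU
  have sqMU' : IsPullback (fst M U).left (snd M U).left M.hom U.hom := IsPullback.of_hasPullback M.hom U.hom
  have hsnd : (snd M U).left = (sqMU'.isoIsPullback _ _ sqMU).hom ≫ pullback.snd cM.left pT ≫ prU :=
    (IsPullback.isoIsPullback_hom_snd _ _ _ _).symm
  haveI : Etale prU := inferInstanceAs (Etale (pullback.fst U.hom T'.hom))
  haveI : IsSeparated prU := inferInstanceAs (IsSeparated (pullback.fst U.hom T'.hom))
  haveI hE : Etale (snd M U).left := by rw [hsnd]; infer_instance
  haveI hS : IsSeparated (snd M U).left := by rw [hsnd]; infer_instance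
  have sqI := isPullback_img (X := X) e' a
  have hR₁ : RepWith SepLqf ((yon Y).map (snd M U)) :=
    (repWith_yon_map_iff (P := SepLqf) _).2 ⟨hS, AlgSpLib.locallyQuasiFinite_of_etale _, inferInstance⟩
  have hE' : RepWith @Etale e' := repWith_of_cover sqI (representable_of_cover isEffClass_sepLqf sqI hR₁)
    ((repWith_yon_map_iff (P := @Etale) _).2 hE)
  refine ⟨M, e', hE', by rw [← Over.w cM]; infer_instance, ?_⟩
  let z₀ : (W : Over Y) ⟶ M ⊗ U := lift m r
  refine ⟨z₀.left.base ⟨w, hwV⟩, ?_⟩
  refine (congrArg (fun g => g.left.base (⟨w, hwV⟩ : V.toScheme)) (lift_snd m r)).trans ?_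
  show prU.base (j₀.base w) = x
  have h0 : j₀ ≫ prU = (pullback.fst u e).left ≫ U₀.ι := pullback.lift_fst _ _ _
  exact (congrArg (fun g : P₀.left ⟶ U.left => g.base w) h0).trans (congrArg U₀.ι.base hw)

end Groth.Agent.MonoQuot
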