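import Mathlib
import Groth.Agent.MonoQuotLib.Piece
import Groth.Agent.AlgSpLib.MonoScheme
import Groth.Agent.AlgSpLib.Coprod
import Groth.Agent.AlgSpLib.CoprodOpen

/-!
# Faithfully flat followed by monomorphism
-/

set_option autoImplicit false
set_option backward.isDefEq.respectTransparency false
set_option maxHeartbeats 1600000

universe u

open CategoryTheory CategoryTheory.Limits MonoidalCategory CartesianMonoidalCategory AlgebraicGeometry Opposite
open AlgSp AlgSpLib Groth.Agent.QuotRep

noncomputable section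

namespace Groth.Agent.MonoQuot

variable {Y : Scheme.{u}} (X : Over Y)

/-- The quotient by a flat kernel pair is a scheme. -/
theorem isRepSh_img [LocallyOfFiniteType X.hom] [Flat (pullback.snd X.hom X.hom)]
    [LocallyOfFinitePresentation (pullback.snd X.hom X.hom)] : IsRepSh (Img X) := by
  obtain ⟨U, a, ha, h1, h2, h3, h4⟩ := exists_lqf_atlas X
  haveI := ha; haveI := h1; haveI := h2; haveI := h3; haveI := h4
  choose M e he hM z hz using fun x : U.left => exists_chart a x
  let C : Over Y := Over.mk (Sigma.desc fun x => (M x).hom)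
  let ι' : ∀ x, M x ⟶ C := fun x =>
    Over.homMk (Sigma.ι (fun x => (M x).left) x) (Sigma.ι_desc (fun x => (M x).hom) x)
  have hcov : ∀ v : C.left, ∃ x, v ∈ Set.range (ι' x).left := fun v => by
    obtain ⟨x, y, hy⟩ : ∃ x, ∃ y : (M x).left, (Sigma.ι (fun x => (M x).left) x).base y = v :=
      ⟨((sigmaMk fun x => (M x).left).symm v).1, ((sigmaMk fun x => (M x).left).symm v).2, by
        rw [← sigmaMk_mk]; exact (sigmaMk fun x => (M x).left).apply_symm_apply v⟩
    exact ⟨x, y, hy⟩
  obtain ⟨hc⟩ := nonempty_isColimit_yon_cofan (V := C) ι' (fun x => inferInstanceAs (IsOpenImmersion (Sigma.ι _ x)))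
    hcov (fun i j hij => disjoint_opensRange_sigmaι _ i j hij |> fun h => by
      rw [disjoint_iff, eq_bot_iff] at h
      rw [Set.disjoint_left]
      exact fun p hp hp' => h ⟨hp, hp'⟩)
  let E : (yon Y).obj C ⟶ Img X := Cofan.IsColimit.desc hc e
  have hE : RepWith @Etale E := repWith_of_source_cover (fun x => (yon Y).map (ι' x))
    (fun x => (repWith_yon_map_iff (P := @IsOpenImmersion) _).2 (inferInstanceAs (IsOpenImmersion (Sigma.ι _ x))))
    (fun p => exists_mem_range_inj _ hc p) fun x => by
      rw [show (yon Y).map (ι' x) ≫ E = e x from Cofan.IsColimit.fac hc _ _]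
      exact he x
  haveI : Surjective (snd C U).left := ⟨fun x => ⟨(ι' x ▷ U).left.base (z x),
    (congrArg (fun g => g.left.base (z x)) (whiskerRight_snd (ι' x) U)).trans (hz x)⟩⟩
  have hS : RepWith @Surjective E := repWith_of_cover (isPullback_img E a) hE.rep
    ((repWith_yon_map_iff (P := @Surjective) _).2 ‹_›)
  obtain ⟨i, -⟩ := exists_desc a ((yon Y).map (toUnit U)) fun T b b' _ => by
    obtain ⟨b, rfl⟩ := (yon Y).map_surjective b
    obtain ⟨b', rfl⟩ := (yon Y).map_surjective b'
    rw [← Functor.map_comp, ← Functor.map_comp, toUnit_unique (b ≫ toUnit U) (b' ≫ toUnit U)]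
  haveI : Mono i := mono_of_injective fun T b c _ => eq_of_map_img X b c
  haveI : LocallyOfFiniteType (toUnit C).left := by
    show LocallyOfFiniteType (Sigma.desc fun x => (M x).hom)
    exact IsZariskiLocalAtSource.sigmaDesc (P := @LocallyOfFiniteType) hM
  refine isRepSh_of_mono i E hE hS (toUnit C) ?_
  obtain ⟨w, hw⟩ := (yon Y).map_surjective (E ≫ i)
  rw [← hw, toUnit_unique w (toUnit C)]

end Groth.Agent.MonoQuot

namespace Groth.Agent.MonoQuot

/-- A morphism with flat kernel pair is a faithfully flat map followed by a monomorphism. -/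
theorem exists_mono_factor {X Y : Scheme.{u}} (f : X ⟶ Y) [LocallyOfFiniteType f] [Flat (pullback.snd f f)]
    [LocallyOfFinitePresentation (pullback.snd f f)] :
    ∃ (X' : Scheme.{u}) (f' : X ⟶ X') (f'' : X' ⟶ Y), Surjective f' ∧ Flat f' ∧ LocallyOfFinitePresentation f' ∧
      Mono f'' ∧ f' ≫ f'' = f := by
  let Xo : Over Y := Over.mk f
  haveI : LocallyOfFiniteType Xo.hom := ‹LocallyOfFiniteType f›
  haveI : Flat (pullback.snd Xo.hom Xo.hom) := ‹Flat (pullback.snd f f)›
  haveI : LocallyOfFinitePresentation (pullback.snd Xo.hom Xo.hom) :=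
    ‹LocallyOfFinitePresentation (pullback.snd f f)›
  haveI : Flat (snd Xo Xo).left := ‹Flat (pullback.snd f f)›
  haveI : LocallyOfFinitePresentation (snd Xo Xo).left := ‹LocallyOfFinitePresentation (pullback.snd f f)›
  obtain ⟨i, hi, hit⟩ := exists_inverse_iso (ker₂ Xo)
  haveI := hi
  haveI : Flat (fst Xo Xo).left := by rw [← hit]; infer_instance
  haveI : LocallyOfFinitePresentation (fst Xo Xo).left := by rw [← hit]; infer_instance
  obtain ⟨Q, p, sq, h1, h2, h3⟩ := exists_quotient_of_isRepSh (ker₂ Xo) (isRepSh_img Xo)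
  haveI : Mono Q.hom := by
    refine ⟨fun {T} b c h => ?_⟩
    let T' : Over Y := Over.mk (b ≫ Q.hom)
    let bo : T' ⟶ Q := Over.homMk b rfl
    let co : T' ⟶ Q := Over.homMk c h.symm
    suffices e : bo = co from congrArg Over.Hom.left e
    haveI := h1; haveI := h2; haveI := h3
    haveI := isLocallySurjective_yon_map p
    obtain ⟨T₁, q₁, l, _, _, _, hl⟩ := exists_single_lift ((yon Y).map p) ((yon Y).map bo)
    obtain ⟨l, rfl⟩ := (yon Y).map_surjective l
    obtain ⟨T₂, q₂, l', _, _, _, hl'⟩ := exists_single_lift ((yon Y).map p) ((yon Y).map (q₁ ≫ co))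
    obtain ⟨l', rfl⟩ := (yon Y).map_surjective l'
    haveI := epi_map_of_fppf q₁
    haveI := epi_map_of_fppf q₂
    apply (yon Y).map_injective
    rw [← cancel_epi ((yon Y).map q₁), ← hl, ← Functor.map_comp, ← Functor.map_comp,
      ← cancel_epi ((yon Y).map q₂), ← hl', ← Functor.map_comp, ← Functor.map_comp]
    refine congrArg _ ?_
    have key : (q₂ ≫ l) ≫ p = l' ≫ p := by
      have hsq := congrArg (lift (q₂ ≫ l) l' ≫ ·) sq.w
      simp only [← Category.assoc, lift_fst, lift_snd] at hsq
      exact hsq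
    rw [← Category.assoc, key]
  exact ⟨Q.left, p.left, Q.hom, h2, h1, h3, inferInstance, Over.w p⟩

end Groth.Agent.MonoQuot
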