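import Mathlib
import Groth.Prelude
import Groth.Agent.MonoQuotLib.Main
import Groth.Agent.UOpenLib.Criterion
import Groth.Agent.S0114
import Groth.Agent.AlgSpLib.Sep
import Groth.Agent.FinHomLib.Affine
import Groth.Agent.QuotRepLib.Restrict
import Groth.Agent.QuotRepLib.Transfer

/-!
# Homogeneous spaces as subsheaves
-/

set_option autoImplicit false
set_option backward.isDefEq.respectTransparency false
set_option maxHeartbeats 800000

universe u

open CategoryTheory CategoryTheory.Limits MonoidalCategory CartesianMonoidalCategory AlgebraicGeometry Opposite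
open AlgSp AlgSpLib Groth.Agent.QuotRep
open scoped MonObj

noncomputable section

namespace Groth.Agent.MonoQuot

variable {S : Scheme.{u}}

/-- Morphisms descend along fppf morphisms over the base. -/
theorem exists_desc_over {A B C : Over S} (p : A ⟶ B) [Flat p.left] [LocallyOfFinitePresentation p.left]
    [Surjective p.left] (x : A ⟶ C) (hx : ∀ (T : Over S) (a b : T ⟶ A), a ≫ p = b ≫ p → a ≫ x = b ≫ x) :
    ∃ y : B ⟶ C, p ≫ y = x := by
  haveI := isLocallySurjective_yon_map p
  obtain ⟨y, hy⟩ := exists_desc ((yon S).map p) ((yon S).map x) fun T a b h => by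
    obtain ⟨a, rfl⟩ := (yon S).map_surjective a
    obtain ⟨b, rfl⟩ := (yon S).map_surjective b
    rw [← Functor.map_comp, ← Functor.map_comp] at h ⊢
    exact congrArg _ (hx T a b ((yon S).map_injective h))
  obtain ⟨y, rfl⟩ := (yon S).map_surjective y
  exact ⟨y, (yon S).map_injective (by rw [Functor.map_comp]; exact hy)⟩

theorem epi_over {A B : Over S} (p : A ⟶ B) [Flat p.left] [LocallyOfFinitePresentation p.left]
    [Surjective p.left] : Epi p :=
  ⟨fun a b h => (yon S).map_injective (by
    haveI := epi_map_of_fppf p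
    rw [← cancel_epi ((yon S).map p), ← Functor.map_comp, ← Functor.map_comp, h])⟩

theorem fppf_tensor {A B C D : Over S} (p : A ⟶ B) (q : C ⟶ D) [Flat p.left] [LocallyOfFinitePresentation p.left]
    [Surjective p.left] [Flat q.left] [LocallyOfFinitePresentation q.left] [Surjective q.left] :
    Flat (p ⊗ₘ q).left ∧ LocallyOfFinitePresentation (p ⊗ₘ q).left ∧ Surjective (p ⊗ₘ q).left := by
  have hl : ∀ (P : MorphismProperty Scheme.{u}) [P.IsStableUnderBaseChange], P q.left → P (B ◁ q).left := by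
    intro P _ h
    exact MorphismProperty.of_isPullback (FinHom.isPullback_whiskerLeft B q).flip h
  haveI := whiskerRight_left @Surjective p C ‹_›
  haveI := whiskerRight_left @Flat p C ‹_›
  haveI := whiskerRight_left @LocallyOfFinitePresentation p C ‹_›
  haveI := hl @Surjective ‹_›
  haveI := hl @Flat ‹_›
  haveI := hl @LocallyOfFinitePresentation ‹_›
  rw [MonoidalCategory.tensorHom_def, Over.comp_left]
  exact ⟨inferInstance, inferInstance, inferInstance⟩

variable {G H X : Over S} [GrpObj G] (i : H ⟶ G) (o : G ⟶ X)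

theorem mulHom_eq : (G ◁ i) ≫ μ[G] = fst G H * (snd G H ≫ i) := by
  rw [Hom.mul_def]
  congr 1

/-- The square of a map whose fibres are cosets. -/
theorem isPullback_cosets [Mono i]
    (hiff : ∀ (T : Over S) (g g' : T ⟶ G), g ≫ o = g' ≫ o ↔ ∃ h : T ⟶ H, g * (h ≫ i) = g') :
    IsPullback (fst G H) ((G ◁ i) ≫ μ[G]) o o := by
  refine ⟨⟨(hiff _ _ _).mpr ⟨snd G H, (mulHom_eq i).symm⟩⟩, ⟨PullbackCone.IsLimit.mk _
    (fun c => lift c.fst ((hiff _ _ _).mp c.condition).choose) (fun c => lift_fst _ _) (fun c => ?_)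
    (fun c m h1 h2 => ?_)⟩⟩
  · rw [mulHom_eq, MonObj.comp_mul, lift_fst, lift_snd_assoc]
    exact ((hiff _ _ _).mp c.condition).choose_spec
  · refine CartesianMonoidalCategory.hom_ext _ _ (by rw [lift_fst]; exact h1) ?_
    rw [lift_snd, ← cancel_mono i]
    rw [mulHom_eq, MonObj.comp_mul, h1, ← ((hiff _ _ _).mp c.condition).choose_spec, mul_right_inj,
      ← Category.assoc] at h2
    exact h2

/-- The homogeneous space of a flat stabilizer is a subsheaf represented by a scheme. -/
theorem exists_quotient_cosets [LocallyOfFinitePresentation G.hom] [Flat H.hom]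
    (hX : LocallyOfFiniteType X.hom ∨ IsLocallyNoetherian S) (hsq : IsPullback (fst G H) ((G ◁ i) ≫ μ[G]) o o) :
    ∃ (Q : Over S) (p : G ⟶ Q) (m : Q ⟶ X), p ≫ m = o ∧ Surjective p.left ∧ Flat p.left ∧
      LocallyOfFinitePresentation p.left ∧ Mono m ∧ LocallyOfFinitePresentation Q.hom ∧
      IsPullback (fst G H) ((G ◁ i) ≫ μ[G]) p p := by
  haveI : LocallyOfFiniteType (o.left ≫ X.hom) := by rw [Over.w o]; infer_instance
  haveI : LocallyOfFiniteType o.left := locallyOfFiniteType_of_comp o.left X.hom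
  have sqL : IsPullback (fst G H).left ((G ◁ i) ≫ μ[G]).left o.left o.left := hsq.map (Over.forget S)
  haveI : Flat (fst G H).left := inferInstanceAs (Flat (pullback.fst G.hom H.hom))
  haveI : Flat (pullback.fst o.left o.left) := by rw [← sqL.isoPullback_inv_fst]; infer_instance
  haveI : Flat (pullback.snd o.left o.left) := by
    rw [← pullbackSymmetry_hom_comp_fst]; infer_instance
  haveI : LocallyOfFinitePresentation (pullback.snd o.left o.left) := by
    rcases hX with hX | hS
    · haveI := hX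
      haveI : LocallyOfFinitePresentation (o.left ≫ X.hom) := by rw [Over.w o]; infer_instance
      haveI : LocallyOfFinitePresentation o.left := AlgSpLib.lfp_of_comp_lft o.left X.hom
      infer_instance
    · haveI := hS
      haveI : IsLocallyNoetherian G.left := LocallyOfFiniteType.isLocallyNoetherian G.hom
      exact UOpenLib.locallyOfFinitePresentation_of_isLocallyNoetherian _
  obtain ⟨Q, p, m, h1, h2, h3, h4, hpm⟩ := exists_mono_factor o.left
  haveI := h1; haveI := h2; haveI := h3; haveI := h4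
  let Qo : Over S := Over.mk (m ≫ X.hom)
  let po : G ⟶ Qo := Over.homMk p (by show p ≫ m ≫ X.hom = G.hom; rw [reassoc_of% hpm, Over.w o])
  let mo : Qo ⟶ X := Over.homMk m rfl
  haveI : Mono mo := Over.mono_of_mono_left mo
  have e : po ≫ mo = o := Over.OverMorphism.ext hpm
  refine ⟨Qo, po, mo, e, h1, h2, h3, inferInstance, ?_, isPullback_of_comp_mono (i := mo) (by rw [e]; exact hsq)⟩
  haveI : LocallyOfFinitePresentation (p ≫ Qo.hom) := by
    rw [show p ≫ Qo.hom = G.hom from Over.w po]; infer_instance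
  exact Groth.Agent.S0114.result p Qo.hom

theorem act_one (a : AlgGrp.Action G X) {T : Over S} (x : T ⟶ X) :
    lift (1 : T ⟶ G) x ≫ a.act = x := by
  have e : lift (1 : T ⟶ G) x = lift (toUnit T) x ≫ (η[G] ▷ X) := by
    refine CartesianMonoidalCategory.hom_ext _ _ ?_ (by simp)
    simp [Hom.one_def]
  rw [e, Category.assoc, a.one_act, leftUnitor_hom, lift_snd]

theorem act_mul (a : AlgGrp.Action G X) {T : Over S} (g g' : T ⟶ G) (x : T ⟶ X) :
    lift (g * g') x ≫ a.act = lift g (lift g' x ≫ a.act) ≫ a.act := by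
  have e : lift (g * g') x = lift (lift g g') x ≫ (μ[G] ▷ X) := by
    refine CartesianMonoidalCategory.hom_ext _ _ ?_ (by simp)
    simp [Hom.mul_def]
  rw [e, Category.assoc, a.mul_act, lift_lift_associator_hom_assoc, lift_whiskerLeft_assoc]

theorem comp_orbitMap (a : AlgGrp.Action G X) (ξ : 𝟙_ (Over S) ⟶ X) {T : Over S} (g : T ⟶ G) :
    g ≫ a.orbitMap ξ = lift g (toUnit T ≫ ξ) ≫ a.act := by
  rw [AlgGrp.Action.orbitMap, ← Category.assoc, comp_lift, Category.comp_id, ← Category.assoc g,
    toUnit_unique (g ≫ toUnit G) (toUnit T)]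

/-- Fibres of the orbit map are cosets of the stabilizer. -/
theorem orbit_iff (a : AlgGrp.Action G X) (ξ : 𝟙_ (Over S) ⟶ X) (hH : IsPullback i (toUnit H) (a.orbitMap ξ) ξ)
    (T : Over S) (g g' : T ⟶ G) :
    g ≫ a.orbitMap ξ = g' ≫ a.orbitMap ξ ↔ ∃ h : T ⟶ H, g * (h ≫ i) = g' := by
  constructor
  · intro e
    have e' : (g⁻¹ * g') ≫ a.orbitMap ξ = toUnit T ≫ ξ := by
      rw [comp_orbitMap, act_mul, ← comp_orbitMap, ← e, comp_orbitMap, ← act_mul, inv_mul_cancel, act_one]
    exact ⟨hH.lift _ _ e', by rw [hH.lift_fst, mul_inv_cancel_left]⟩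
  · rintro ⟨h, rfl⟩
    have e : (h ≫ i) ≫ a.orbitMap ξ = toUnit T ≫ ξ := by
      rw [Category.assoc, hH.w, ← Category.assoc, toUnit_unique (h ≫ toUnit H) (toUnit T)]
    rw [comp_orbitMap a ξ (g * (h ≫ i)), act_mul, ← comp_orbitMap a ξ (h ≫ i), e, ← comp_orbitMap]

theorem mono_of_stabilizer (a : AlgGrp.Action G X) (ξ : 𝟙_ (Over S) ⟶ X)
    (hH : IsPullback i (toUnit H) (a.orbitMap ξ) ξ) : Mono i :=
  ⟨fun b c e => hH.hom_ext e (toUnit_unique _ _)⟩

end Groth.Agent.MonoQuot
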