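import Mathlib
import Groth.Agent.DescLib.Fpqc
import Groth.Agent.FinHomLib.Affine
import Groth.Agent.QuotRepLib.Restrict

/-!
# Covering morphisms over a base
-/

set_option autoImplicit false
set_option backward.isDefEq.respectTransparency false
set_option maxHeartbeats 800000

universe u

open CategoryTheory CategoryTheory.Limits MonoidalCategory CartesianMonoidalCategory AlgebraicGeometry Opposite
open DescLib

noncomputable section

namespace Groth.Agent.MonoQuot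

/-- A morphism refined by an fpqc covering. -/
def IsCov {X Y : Scheme.{u}} (p : X ⟶ Y) : Prop :=
  ∃ (Z : Scheme.{u}) (q : Z ⟶ Y) (r : Z ⟶ X), r ≫ p = q ∧ Fpqc q

theorem isCov_of_compact {X Y Z : Scheme.{u}} (p : X ⟶ Y) (q : Z ⟶ Y) (r : Z ⟶ X) (h : r ≫ p = q) [Surjective q]
    [Flat q] (hV : ∀ V : Y.Opens, IsAffineOpen V →
      ∃ W : Z.Opens, IsCompact (W : Set Z) ∧ q.base '' (W : Set Z) = (V : Set Y)) : IsCov p := by
  refine ⟨Z, q, r, h, ⟨?_, ?_⟩⟩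
  · rw [← Presieve.ofArrows_pUnit.{u}]
    let E : PreZeroHypercover.{u} Y := ⟨PUnit.{u + 1}, fun _ => Z, fun _ => q⟩
    show E.presieve₀ ∈ _
    refine Scheme.presieve₀_mem_qcPrecoverage_iff.mpr ⟨fun {U} hU => ?_⟩
    obtain ⟨W, hW, hWU⟩ := hV U hU
    exact ⟨{PUnit.unit}, Set.finite_singleton _, fun _ _ => W, fun _ _ => hW, by ext; simp [E, hWU]⟩
  · rw [← Presieve.ofArrows_pUnit.{u}]
    exact (Scheme.ofArrows_mem_precoverage_iff _).mpr
      ⟨fun y => ⟨PUnit.unit, q.surjective y⟩, fun _ => ‹Flat q›⟩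

theorem IsCov.of_fppf {X Y : Scheme.{u}} (p : X ⟶ Y) [Flat p] [LocallyOfFinitePresentation p] [Surjective p] :
    IsCov p := by
  refine ⟨X, p, 𝟙 X, Category.id_comp p, ⟨Scheme.fppfPrecoverage_le_fpqcPrecoverage Y ?_⟩⟩
  rw [← Presieve.ofArrows_pUnit.{u}]
  exact (Scheme.ofArrows_mem_precoverage_iff _).mpr
    ⟨fun y => ⟨PUnit.unit, p.surjective y⟩, fun _ => ⟨‹_›, ‹_›⟩⟩

theorem IsCov.of_isPullback {A B C D : Scheme.{u}} {a : A ⟶ B} {b : A ⟶ C} {c : B ⟶ D} {d : C ⟶ D}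
    (sq : IsPullback a b c d) (hd : IsCov d) : IsCov a := by
  obtain ⟨Z, q, r, hr, hq⟩ := hd
  exact ⟨_, pullback.fst c q, sq.lift (pullback.fst c q) (pullback.snd c q ≫ r)
    (by rw [Category.assoc, hr]; exact pullback.condition), sq.lift_fst _ _ _, inferInstance⟩

theorem IsCov.epi {X Y : Scheme.{u}} {p : X ⟶ Y} (h : IsCov p) : Epi p := by
  obtain ⟨Z, q, r, hr, hq⟩ := h
  haveI : Epi q := Fpqc.epi_of q
  haveI : Epi (r ≫ p) := hr ▸ ‹Epi q›
  exact epi_of_epi r p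

variable {S : Scheme.{u}}

theorem IsCov.epi_over {A B : Over S} {p : A ⟶ B} (h : IsCov p.left) : Epi p :=
  haveI := h.epi
  ⟨fun a b e => Over.OverMorphism.ext ((cancel_epi p.left).mp (congrArg Over.Hom.left e))⟩

/-- Points lift along covering morphisms after a covering. -/
theorem IsCov.exists_lift {A B : Over S} {p : A ⟶ B} (h : IsCov p.left) {T : Over S} (b : T ⟶ B) :
    ∃ (T' : Over S) (c : T' ⟶ T) (a : T' ⟶ A), IsCov c.left ∧ a ≫ p = c ≫ b :=
  ⟨pullback b p, pullback.fst b p, pullback.snd b p,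
    h.of_isPullback ((IsPullback.of_hasPullback b p).map (Over.forget S)), pullback.condition.symm⟩

/-- Descent of morphisms along covering morphisms. -/
theorem IsCov.exists_desc {A B C : Over S} {p : A ⟶ B} (h : IsCov p.left) (x : A ⟶ C)
    (hx : ∀ (T : Over S) (a b : T ⟶ A), a ≫ p = b ≫ p → a ≫ x = b ≫ x) : ∃ y : B ⟶ C, p ≫ y = x := by
  obtain ⟨Z, q, r, hr, hq⟩ := id h
  let Zo : Over S := Over.mk (q ≫ B.hom)
  let ro : Zo ⟶ A := Over.homMk r (by show r ≫ A.hom = q ≫ B.hom; rw [← hr, Category.assoc, Over.w p])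
  let qo : Zo ⟶ B := Over.homMk q rfl
  have hro : ro ≫ p = qo := Over.OverMorphism.ext hr
  have hconst : ∀ {W : Scheme.{u}} (g₁ g₂ : W ⟶ Z), g₁ ≫ q = g₂ ≫ q →
      g₁ ≫ r ≫ x.left = g₂ ≫ r ≫ x.left := fun {W} g₁ g₂ e => by
    let Wo : Over S := Over.mk (g₁ ≫ q ≫ B.hom)
    let a : Wo ⟶ Zo := Over.homMk g₁ rfl
    let b : Wo ⟶ Zo := Over.homMk g₂ (by show g₂ ≫ q ≫ B.hom = g₁ ≫ q ≫ B.hom; rw [reassoc_of% e])
    have hab : a ≫ qo = b ≫ qo := Over.OverMorphism.ext e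
    have := congrArg Over.Hom.left (hx Wo (a ≫ ro) (b ≫ ro) (by rw [Category.assoc, Category.assoc, hro, hab]))
    simpa [a, b, ro] using this
  haveI := hq
  let y₀ := EffectiveEpi.desc q (r ≫ x.left) hconst
  have hy₀ : q ≫ y₀ = r ≫ x.left := EffectiveEpi.fac _ _ _
  haveI : Epi q := Fpqc.epi_of q
  let y : B ⟶ C := Over.homMk y₀ (by
    rw [← cancel_epi q, reassoc_of% hy₀, Over.w x, ← reassoc_of% hr, Over.w p])
  have hy : qo ≫ y = ro ≫ x := Over.OverMorphism.ext hy₀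
  refine ⟨y, ?_⟩
  obtain ⟨T', c, a, hc, ha⟩ := IsCov.exists_lift (p := qo) ⟨Z, q, 𝟙 _, Category.id_comp q, hq⟩ p
  haveI := hc.epi_over
  rw [← cancel_epi c, ← Category.assoc, ← ha, Category.assoc, hy, ← Category.assoc]
  exact hx _ _ _ (by rw [Category.assoc, hro, ha])

theorem IsCov.whiskerRight {A B : Over S} {p : A ⟶ B} (h : IsCov p.left) (C : Over S) : IsCov (p ▷ C).left :=
  h.of_isPullback (QuotRep.isPullback_whiskerRight p C)

theorem IsCov.whiskerLeft {A B : Over S} {p : A ⟶ B} (h : IsCov p.left) (C : Over S) : IsCov (C ◁ p).left :=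
  h.of_isPullback (FinHom.isPullback_whiskerLeft C p)

theorem IsCov.epi_tensor {A B C D : Over S} {p : A ⟶ B} (h : IsCov p.left) {q : C ⟶ D} (h' : IsCov q.left) :
    Epi (p ⊗ₘ q) := by
  haveI := (h.whiskerRight C).epi_over
  haveI := (h'.whiskerLeft B).epi_over
  rw [MonoidalCategory.tensorHom_def]
  infer_instance

theorem IsCov.exists_desc_tensor {A B C D E : Over S} {p : A ⟶ B} (h : IsCov p.left) {q : C ⟶ D} (h' : IsCov q.left)
    (x : A ⊗ C ⟶ E) (hx : ∀ (T : Over S) (a b : T ⟶ A ⊗ C), a ≫ (p ⊗ₘ q) = b ≫ (p ⊗ₘ q) → a ≫ x = b ≫ x) :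
    ∃ y : B ⊗ D ⟶ E, (p ⊗ₘ q) ≫ y = x := by
  obtain ⟨y₁, hy₁⟩ := (h.whiskerRight C).exists_desc x fun T a b e =>
    hx T a b (by rw [MonoidalCategory.tensorHom_def, reassoc_of% e])
  obtain ⟨y, hy⟩ := (h'.whiskerLeft B).exists_desc y₁ fun T a b e => by
    obtain ⟨T₁, c₁, a', hc₁, ha'⟩ := (h.whiskerRight C).exists_lift a
    obtain ⟨T₂, c₂, b', hc₂, hb'⟩ := (h.whiskerRight C).exists_lift (c₁ ≫ b)
    haveI := hc₁.epi_over
    haveI := hc₂.epi_over
    rw [← cancel_epi c₁, ← cancel_epi c₂]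
    calc c₂ ≫ c₁ ≫ a ≫ y₁ = (c₂ ≫ a') ≫ x := by
          rw [Category.assoc, ← hy₁, reassoc_of% ha']
      _ = b' ≫ x := ?_
      _ = c₂ ≫ c₁ ≫ b ≫ y₁ := by rw [← hy₁, reassoc_of% hb']
    exact hx _ _ _ (by
      rw [MonoidalCategory.tensorHom_def, Category.assoc, reassoc_of% ha', reassoc_of% hb', e])
  exact ⟨y, by rw [MonoidalCategory.tensorHom_def, Category.assoc, hy, hy₁]⟩

end Groth.Agent.MonoQuot
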