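import Mathlib
import Groth.Prelude
import Groth.Agent.MonoQuotLib.Cov
import Groth.Agent.MonoQuotLib.Orbit

/-!
# The group structure on a quotient by a normal subgroup
-/

set_option autoImplicit false
set_option backward.isDefEq.respectTransparency false
set_option maxHeartbeats 1600000

universe u

open CategoryTheory CategoryTheory.Limits MonoidalCategory CartesianMonoidalCategory AlgebraicGeometry Opposite
open scoped MonObj

noncomputable section

namespace Groth.Agent.MonoQuot

variable {S : Scheme.{u}} {G N Q : Over S} [GrpObj G] {i : N ⟶ G} {p : G ⟶ Q}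

/-- Fibres of a quotient map are cosets. -/
theorem coset_iff (hsq : IsPullback (fst G N) ((G ◁ i) ≫ μ[G]) p p) {T : Over S} (g g' : T ⟶ G) :
    g ≫ p = g' ≫ p ↔ ∃ h : T ⟶ N, g * (h ≫ i) = g' := by
  constructor
  · intro e
    obtain ⟨l, h1, h2⟩ : ∃ l, l ≫ fst G N = g ∧ l ≫ (G ◁ i) ≫ μ[G] = g' :=
      ⟨_, hsq.lift_fst g g' e, hsq.lift_snd g g' e⟩
    refine ⟨l ≫ snd G N, ?_⟩
    rw [mulHom_eq, MonObj.comp_mul, h1] at h2
    rw [Category.assoc]
    exact h2
  · rintro ⟨h, rfl⟩
    have := congrArg (lift g h ≫ ·) hsq.w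
    simp only [← Category.assoc, lift_fst] at this
    rw [this, Category.assoc (lift g h), mulHom_eq, MonObj.comp_mul, lift_fst, lift_snd_assoc]

/-- The quotient by a normal subgroup is a group. -/
theorem exists_grpObj_quotient [GrpObj N] [IsMonHom i] (hp : IsCov p.left) (hN : AlgGrp.IsNormalHom i)
    (hsq : IsPullback (fst G N) ((G ◁ i) ≫ μ[G]) p p) : ∃ _ : GrpObj Q, IsMonHom p := by
  haveI := hp.epi_over
  obtain ⟨mulQ, hmul⟩ := hp.exists_desc_tensor hp (μ[G] ≫ p) fun T a b e => by
    have e1 : (a ≫ fst G G) ≫ p = (b ≫ fst G G) ≫ p := by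
      have := congrArg (· ≫ fst Q Q) e
      simpa only [Category.assoc, tensorHom_fst] using this
    have e2 : (a ≫ snd G G) ≫ p = (b ≫ snd G G) ≫ p := by
      have := congrArg (· ≫ snd Q Q) e
      simpa only [Category.assoc, tensorHom_snd] using this
    obtain ⟨h1, hh1⟩ := (coset_iff hsq _ _).mp e1
    obtain ⟨h2, hh2⟩ := (coset_iff hsq _ _).mp e2
    obtain ⟨h1', hh1'⟩ := hN T (a ≫ snd G G)⁻¹ h1
    have key : ∀ c : T ⟶ G ⊗ G, c ≫ μ[G] = (c ≫ fst G G) * (c ≫ snd G G) := fun c => by
      rw [Hom.mul_def, ← comp_lift, lift_fst_snd, Category.comp_id]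
    rw [← Category.assoc, ← Category.assoc, key, key]
    refine (coset_iff hsq _ _).mpr ⟨h1' * h2, ?_⟩
    rw [← hh1, ← hh2, MonObj.mul_comp, ← hh1', inv_inv]
    simp only [mul_assoc, mul_inv_cancel_left]
  obtain ⟨invQ, hinv⟩ := hp.exists_desc (GrpObj.inv (X := G) ≫ p) fun T a b e => by
    obtain ⟨h, hh⟩ := (coset_iff hsq a b).mp e
    obtain ⟨h', hh'⟩ := hN T a h
    rw [← Category.assoc, ← Category.assoc, ← Hom.inv_def, ← Hom.inv_def]
    refine (coset_iff hsq _ _).mpr ⟨h'⁻¹, ?_⟩
    rw [← hh, GrpObj.inv_comp, ← hh']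
    simp only [mul_inv_rev, inv_inv, mul_assoc, inv_mul_cancel_left]
  let oneQ : 𝟙_ (Over S) ⟶ Q := η[G] ≫ p
  letI monQ : MonObj Q :=
    { one := oneQ
      mul := mulQ
      one_mul := by
        haveI := (hp.whiskerLeft (𝟙_ (Over S))).epi_over
        rw [← cancel_epi (𝟙_ (Over S) ◁ p), leftUnitor_naturality, whisker_exchange_assoc]
        show (η[G] ≫ p) ▷ G ≫ Q ◁ p ≫ mulQ = _
        rw [comp_whiskerRight, Category.assoc, ← MonoidalCategory.tensorHom_def_assoc, hmul, ← Category.assoc,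
          MonObj.one_mul]
      mul_one := by
        haveI := (hp.whiskerRight (𝟙_ (Over S))).epi_over
        rw [← cancel_epi (p ▷ 𝟙_ (Over S)), rightUnitor_naturality, ← whisker_exchange_assoc]
        show G ◁ (η[G] ≫ p) ≫ p ▷ Q ≫ mulQ = _
        rw [MonoidalCategory.whiskerLeft_comp, Category.assoc, ← MonoidalCategory.tensorHom_def'_assoc, hmul,
          ← Category.assoc, MonObj.mul_one]
      mul_assoc := by
        haveI : Epi ((p ⊗ₘ p) ⊗ₘ p) := by
          haveI := hp.epi_tensor hp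
          haveI := ((hp.whiskerRight G).whiskerRight G).epi_over
          haveI := ((hp.whiskerLeft Q).whiskerRight G).epi_over
          haveI := (hp.whiskerLeft (Q ⊗ Q)).epi_over
          rw [MonoidalCategory.tensorHom_def (p ⊗ₘ p), MonoidalCategory.tensorHom_def, comp_whiskerRight]
          infer_instance
        rw [← cancel_epi ((p ⊗ₘ p) ⊗ₘ p)]
        conv_rhs => rw [associator_naturality_assoc, ← Category.assoc (p ⊗ₘ (p ⊗ₘ p)), tensorHom_comp_whiskerLeft,
          hmul, ← whiskerLeft_comp_tensorHom, Category.assoc, hmul]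
        conv_lhs => rw [← Category.assoc ((p ⊗ₘ p) ⊗ₘ p), tensorHom_comp_whiskerRight, hmul,
          ← whiskerRight_comp_tensorHom, Category.assoc, hmul]
        simp only [← Category.assoc, MonObj.mul_assoc] }
  haveI hp' : IsMonHom p := ⟨rfl, hmul.symm⟩
  letI grpQ : GrpObj Q :=
    { inv := invQ
      left_inv := by
        rw [← cancel_epi p, comp_lift_assoc, hinv, Category.comp_id, ← Category.assoc p (toUnit Q),
          toUnit_unique (p ≫ toUnit Q) (toUnit G)]
        show lift (GrpObj.inv (X := G) ≫ p) p ≫ mulQ = toUnit G ≫ η[G] ≫ p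
        rw [← Category.id_comp p, ← lift_map, Category.assoc, Category.id_comp, hmul, ← Category.assoc,
          GrpObj.left_inv, Category.assoc]
      right_inv := by
        rw [← cancel_epi p, comp_lift_assoc, hinv, Category.comp_id, ← Category.assoc p (toUnit Q),
          toUnit_unique (p ≫ toUnit Q) (toUnit G)]
        show lift p (GrpObj.inv (X := G) ≫ p) ≫ mulQ = toUnit G ≫ η[G] ≫ p
        rw [← Category.id_comp p, ← lift_map, Category.assoc, Category.id_comp, hmul, ← Category.assoc,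
          GrpObj.right_inv, Category.assoc] }
  exact ⟨grpQ, hp'⟩

theorem isKernel_quotient [GrpObj N] [IsMonHom i] [GrpObj Q] [IsMonHom p] [Mono i]
    (hsq : IsPullback (fst G N) ((G ◁ i) ≫ μ[G]) p p) : IsPullback i (toUnit N) p η[Q] := by
  have hker : ∀ {T : Over S} (a : T ⟶ G), a ≫ p = toUnit T ≫ η[Q] ↔ ∃ n : T ⟶ N, n ≫ i = a := fun {T} a => by
    rw [show toUnit T ≫ η[Q] = (1 : T ⟶ G) ≫ p by rw [Hom.one_def, Category.assoc, IsMonHom.one_hom p], eq_comm,
      coset_iff hsq]
    simp only [one_mul]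
  refine ⟨⟨(hker i).mpr ⟨𝟙 N, Category.id_comp i⟩⟩, ⟨PullbackCone.IsLimit.mk _
    (fun c => ((hker c.fst).mp (c.condition.trans (congrArg (· ≫ η[Q]) (toUnit_unique _ _)))).choose)
    (fun c => ((hker c.fst).mp (c.condition.trans (congrArg (· ≫ η[Q]) (toUnit_unique _ _)))).choose_spec)
    (fun c => toUnit_unique _ _)
    (fun c m h1 _ => (cancel_mono i).mp
      (h1.trans ((hker c.fst).mp (c.condition.trans (congrArg (· ≫ η[Q]) (toUnit_unique _ _)))).choose_spec.symm))⟩⟩

end Groth.Agent.MonoQuot
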