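import Mathlib
import Groth.Agent.MonoQuotLib.Orbit

/-!
# Quotients by flat kernels
-/

set_option autoImplicit false
set_option backward.isDefEq.respectTransparency false
set_option maxHeartbeats 1600000

universe u

open CategoryTheory CategoryTheory.Limits MonoidalCategory CartesianMonoidalCategory AlgebraicGeometry Opposite
open AlgSp AlgSpLib Groth.Agent.QuotRep
open scoped MonObj

noncomputable section

namespace Groth.Agent.MonoQuot

variable {S : Scheme.{u}} {G H : Over S} [GrpObj G] [GrpObj H]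

/-- Fibres of a homomorphism are cosets of its kernel. -/
theorem kernel_iff (u : G ⟶ H) [IsMonHom u] {K : Over S} (k : K ⟶ G) (hK : IsPullback k (toUnit K) u η[H])
    (T : Over S) (g g' : T ⟶ G) : g ≫ u = g' ≫ u ↔ ∃ h : T ⟶ K, g * (h ≫ k) = g' := by
  constructor
  · intro e
    have e' : (g⁻¹ * g') ≫ u = toUnit T ≫ η[H] := by
      rw [MonObj.mul_comp, GrpObj.inv_comp, e, inv_mul_cancel, Hom.one_def]
    exact ⟨hK.lift _ _ e', by rw [hK.lift_fst, mul_inv_cancel_left]⟩
  · rintro ⟨h, rfl⟩
    rw [MonObj.mul_comp, Category.assoc, hK.w, ← Category.assoc, toUnit_unique (h ≫ toUnit K) (toUnit T),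
      ← Hom.one_def, mul_one]

/-- A subscheme between a group and a group, image of a homomorphism, is a group. -/
theorem exists_grpObj_image {u : G ⟶ H} [IsMonHom u] {Q : Over S} (p : G ⟶ Q) [Flat p.left]
    [LocallyOfFinitePresentation p.left] [Surjective p.left] (m : Q ⟶ H) [Mono m] (hpm : p ≫ m = u) :
    ∃ (_ : GrpObj Q), IsMonHom p ∧ IsMonHom m := by
  obtain ⟨f1, f2, f3⟩ := fppf_tensor p p
  haveI := f1; haveI := f2; haveI := f3
  haveI := epi_over p
  obtain ⟨mulQ, hmul⟩ := exists_desc_over (p ⊗ₘ p) (μ[G] ≫ p) fun T a b e => by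
    rw [← cancel_mono m]
    have key : ∀ c : T ⟶ G ⊗ G, (c ≫ μ[G] ≫ p) ≫ m = (c ≫ (p ⊗ₘ p)) ≫ (m ⊗ₘ m) ≫ μ[H] := fun c => by
      rw [Category.assoc, Category.assoc, hpm, IsMonHom.mul_hom u, Category.assoc, tensorHom_comp_tensorHom_assoc,
        hpm]
    rw [key, key, e]
  obtain ⟨invQ, hinv⟩ := exists_desc_over p (GrpObj.inv (X := G) ≫ p) fun T a b e => by
    rw [← cancel_mono m, Category.assoc, Category.assoc, Category.assoc, Category.assoc, hpm,
      GrpObj.inv_hom u, ← hpm, Category.assoc, reassoc_of% e]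
  let oneQ : 𝟙_ (Over S) ⟶ Q := η[G] ≫ p
  have h1 : oneQ ≫ m = η[H] := by simp only [oneQ, Category.assoc, hpm, IsMonHom.one_hom]
  have h2 : mulQ ≫ m = (m ⊗ₘ m) ≫ μ[H] := by
    haveI := epi_over (p ⊗ₘ p)
    rw [← cancel_epi (p ⊗ₘ p), reassoc_of% hmul, hpm, IsMonHom.mul_hom u, tensorHom_comp_tensorHom_assoc, hpm]
  have h3 : invQ ≫ m = m ≫ GrpObj.inv (X := H) := by
    rw [← cancel_epi p, reassoc_of% hinv, hpm, GrpObj.inv_hom u, reassoc_of% hpm]
  letI monQ : MonObj Q :=
    { one := oneQ
      mul := mulQ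
      one_mul := by
        rw [← cancel_mono m, Category.assoc, h2, leftUnitor_hom]
        show (oneQ ▷ Q) ≫ (m ⊗ₘ m) ≫ μ[H] = _
        rw [← Category.assoc, whiskerRight_comp_tensorHom, h1, tensorHom_def', Category.assoc,
          MonObj.one_mul, leftUnitor_hom, whiskerLeft_snd]
      mul_one := by
        rw [← cancel_mono m, Category.assoc, h2, rightUnitor_hom]
        show (Q ◁ oneQ) ≫ (m ⊗ₘ m) ≫ μ[H] = _
        rw [← Category.assoc, whiskerLeft_comp_tensorHom, h1, MonoidalCategory.tensorHom_def, Category.assoc,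
          MonObj.mul_one, rightUnitor_hom, whiskerRight_fst]
      mul_assoc := by
        rw [← cancel_mono m, Category.assoc, Category.assoc, Category.assoc, h2]
        rw [← Category.assoc (mulQ ▷ Q), whiskerRight_comp_tensorHom, h2, ← Category.assoc (Q ◁ mulQ),
          whiskerLeft_comp_tensorHom, h2]
        simp only [← tensorHom_comp_whiskerRight, ← tensorHom_comp_whiskerLeft, Category.assoc, MonObj.mul_assoc]
        rw [associator_naturality_assoc] }
  haveI hm' : IsMonHom m := ⟨h1, h2⟩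
  letI grpQ : GrpObj Q :=
    { inv := invQ
      left_inv := by
        rw [← cancel_mono m, Category.assoc, IsMonHom.mul_hom m, lift_map_assoc, h3, Category.id_comp,
          Category.assoc]
        rw [show lift (m ≫ GrpObj.inv (X := H)) m ≫ μ[H] = m ≫ lift (GrpObj.inv (X := H)) (𝟙 H) ≫ μ[H] by
          rw [comp_lift_assoc, Category.comp_id], GrpObj.left_inv, ← Category.assoc,
          toUnit_unique (m ≫ toUnit H) (toUnit Q)]
        exact congrArg (toUnit Q ≫ ·) h1.symm
      right_inv := by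
        rw [← cancel_mono m, Category.assoc, IsMonHom.mul_hom m, lift_map_assoc, h3, Category.id_comp,
          Category.assoc]
        rw [show lift m (m ≫ GrpObj.inv (X := H)) ≫ μ[H] = m ≫ lift (𝟙 H) (GrpObj.inv (X := H)) ≫ μ[H] by
          rw [comp_lift_assoc, Category.comp_id], GrpObj.right_inv, ← Category.assoc,
          toUnit_unique (m ≫ toUnit H) (toUnit Q)]
        exact congrArg (toUnit Q ≫ ·) h1.symm }
  exact ⟨grpQ, ⟨rfl, hmul.symm⟩, hm'⟩

end Groth.Agent.MonoQuot
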