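import Mathlib
import Groth.Agent.QuotRepLib.Rel
import Groth.Agent.QuotRepLib.KernelPair
import Mathlib.CategoryTheory.EquivalenceRelation

/-!
# Effective quotients and quotient sheaves
-/

set_option autoImplicit false
set_option backward.isDefEq.respectTransparency false
set_option maxHeartbeats 800000

universe u

open CategoryTheory CategoryTheory.Limits MonoidalCategory CartesianMonoidalCategory AlgebraicGeometry Opposite
open AlgSp AlgSpLib Groth.Agent.QuotRep

noncomputable section

namespace Groth.Agent.MonoQuot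

variable {S : Scheme.{u}} {R U Y : Over S} {s t : R ⟶ U}

theorem isEqvRel_of_isEquivalenceRelation [h : IsEquivalenceRelation s t] : IsEqvRel s t := by
  obtain ⟨e⟩ := h.nonempty_equivalenceRelation
  have hinj : ∀ (T : Over S) (r r' : T ⟶ R), r ≫ t = r' ≫ t → r ≫ s = r' ≫ s → r = r' :=
    fun T r r' h1 h2 => e.right_cancellation r r' h2 h1
  refine ⟨hinj, fun T => ⟨fun x => ⟨x ≫ e.r, by simp, by simp⟩, ?_, ?_⟩⟩
  · rintro x y ⟨r, rfl, rfl⟩
    exact ⟨r ≫ e.s, by rw [Category.assoc, e.symmetry₂], by rw [Category.assoc, e.symmetry₁]⟩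
  · rintro x y z ⟨r, rfl, rfl⟩ ⟨r', hr', rfl⟩
    obtain ⟨l, hl1, hl2⟩ : ∃ l : T ⟶ e.c.pt, l ≫ e.c.fst = r' ∧ l ≫ e.c.snd = r := by
      let cone := PullbackCone.mk (f := t) (g := s) r' r hr'
      exact ⟨e.isLimit.lift cone, e.isLimit.fac cone WalkingCospan.left, e.isLimit.fac cone WalkingCospan.right⟩
    exact ⟨l ≫ e.t, by rw [Category.assoc, e.transitivity₂, reassoc_of% hl2],
      by rw [Category.assoc, e.transitivity₁, reassoc_of% hl1]⟩

theorem isQuotient_iff [h : IsEquivalenceRelation s t] [Flat s.left] [Surjective s.left]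
    [LocallyOfFinitePresentation s.left] (q : U ⟶ Y) :
    (IsKernelPair q s t ∧ Flat q.left ∧ Surjective q.left ∧ LocallyOfFinitePresentation q.left) ↔
      QuotSh.IsQuotient Scheme.fppfPrecoverage s t q := by
  have he := isEqvRel_of_isEquivalenceRelation (s := s) (t := t)
  obtain ⟨i, hi, hit⟩ := exists_inverse_iso he
  haveI := hi
  haveI : Flat t.left := by rw [← hit]; infer_instance
  haveI : LocallyOfFinitePresentation t.left := by rw [← hit]; infer_instance
  let K := Scheme.fppfPrecoverage.{u}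
  let ρ := fun V : Over S => QuotSh.repIsoUliftYoneda K V
  have hdesc : ∀ w : s ≫ q = t ≫ q,
      qπ s t ≫ QuotSh.quotDesc K q w ≫ (ρ Y).hom = (yon S).map q := fun w => by
    simp only [qπ, QuotSh.quotDesc, QuotSh.quotπ, Category.assoc, coequalizer.π_desc_assoc]
    rw [Iso.inv_comp_eq]
    exact repIso_naturality q
  constructor
  · rintro ⟨hk, h1, h2, h3⟩
    refine ⟨hk.w, ?_⟩
    haveI := isLocallySurjective_yon_map q
    haveI := epi_map_of_fppf q
    obtain ⟨φ, hφ⟩ := exists_desc ((yon S).map q) (qπ s t) fun T a b e => by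
      obtain ⟨a, rfl⟩ := (yon S).map_surjective a
      obtain ⟨b, rfl⟩ := (yon S).map_surjective b
      rw [← Functor.map_comp, ← Functor.map_comp] at e
      obtain ⟨l, l1, l2⟩ : ∃ l, l ≫ s = a ∧ l ≫ t = b :=
        ⟨_, IsPullback.lift_fst hk a b ((yon S).map_injective e), IsPullback.lift_snd hk a b ((yon S).map_injective e)⟩
      rw [← l1, ← l2, (yon S).map_comp l s, (yon S).map_comp l t, Category.assoc, Category.assoc, qπ_condition]
    haveI : Epi (qπ s t) := (Sheaf.isLocallySurjective_iff_epi _).mp inferInstance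
    haveI : IsIso (QuotSh.quotDesc K q hk.w ≫ (ρ Y).hom) := by
      refine ⟨φ, ?_, ?_⟩
      · rw [← cancel_epi (qπ s t), ← Category.assoc, hdesc, hφ, Category.comp_id]
      · rw [← cancel_epi ((yon S).map q), reassoc_of% hφ, hdesc, Category.comp_id]
    exact IsIso.of_isIso_comp_right _ (ρ Y).hom
  · rintro ⟨w, hiso⟩
    haveI := hiso
    let e : QuotSh.quot K s t ≅ (yon S).obj Y := asIso (QuotSh.quotDesc K q w ≫ (ρ Y).hom)
    have hq : qπ s t ≫ e.hom = (yon S).map q := hdesc w
    obtain ⟨X, p, sq, h1, h2, h3⟩ := exists_quotient_of_isRepSh he ⟨Y, ⟨e.symm⟩⟩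
    haveI := h1; haveI := h2; haveI := h3
    haveI := isLocallySurjective_yon_map p
    have sqY : IsPullback ((yon S).map t) ((yon S).map s) ((yon S).map q) ((yon S).map q) := by
      rw [← hq]
      exact (isPullback_qπ s t he).of_iso (Iso.refl _) (Iso.refl _) (Iso.refl _) e (by simp) (by simp)
        (by simp) (by simp)
    have sqq : IsPullback t s q q :=
      IsPullback.of_map (yon S) ((yon S).map_injective (by rw [Functor.map_comp, Functor.map_comp]; exact sqY.w)) sqY
    haveI : Epi ((yon S).map p) := epi_map_of_fppf p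
    haveI : Sheaf.IsLocallySurjective ((yon S).map q) := by rw [← hq]; infer_instance
    obtain ⟨φ, hφ⟩ := exists_desc ((yon S).map p) ((yon S).map q) fun T a b e' => by
      obtain ⟨a, rfl⟩ := (yon S).map_surjective a
      obtain ⟨b, rfl⟩ := (yon S).map_surjective b
      rw [← Functor.map_comp, ← Functor.map_comp] at e' ⊢
      obtain ⟨l, l1, l2⟩ : ∃ l, l ≫ t = a ∧ l ≫ s = b :=
        ⟨_, sq.lift_fst a b ((yon S).map_injective e'), sq.lift_snd a b ((yon S).map_injective e')⟩
      rw [← l1, ← l2, Category.assoc, Category.assoc, sqq.w]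
    obtain ⟨φ', hφ'⟩ := exists_desc ((yon S).map q) ((yon S).map p) fun T a b e' => by
      obtain ⟨a, rfl⟩ := (yon S).map_surjective a
      obtain ⟨b, rfl⟩ := (yon S).map_surjective b
      rw [← Functor.map_comp, ← Functor.map_comp] at e' ⊢
      obtain ⟨l, l1, l2⟩ : ∃ l, l ≫ t = a ∧ l ≫ s = b :=
        ⟨_, sqq.lift_fst a b ((yon S).map_injective e'), sqq.lift_snd a b ((yon S).map_injective e')⟩
      rw [← l1, ← l2, Category.assoc, Category.assoc, sq.w]
    haveI : Epi ((yon S).map q) := (Sheaf.isLocallySurjective_iff_epi _).mp inferInstance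
    haveI : IsIso φ := ⟨φ', by rw [← cancel_epi ((yon S).map p), reassoc_of% hφ, hφ', Category.comp_id],
      by rw [← cancel_epi ((yon S).map q), reassoc_of% hφ', hφ, Category.comp_id]⟩
    obtain ⟨ψ, rfl⟩ := (yon S).map_surjective φ
    haveI : IsIso ψ := isIso_of_reflects_iso ψ (yon S)
    haveI : IsIso ψ.left := inferInstanceAs (IsIso ((Over.forget S).map ψ))
    have hψ : q.left = p.left ≫ ψ.left := by
      rw [← Over.comp_left, (yon S).map_injective ((Functor.map_comp _ _ _).trans hφ)]
    exact ⟨sqq.flip, by rw [hψ]; infer_instance, by rw [hψ]; infer_instance, by rw [hψ]; infer_instance⟩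

end Groth.Agent.MonoQuot
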