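import Mathlib
import Groth.Prelude
import Groth.Agent.MonoQuotLib.Main
import Groth.Agent.MonoQuotLib.Orbit
import Groth.Agent.UOpenLib.Criterion
import Groth.Agent.S0114
import Groth.Agent.AlgSpLib.Reduced

/-!
# The image of the graph of an action
-/

set_option autoImplicit false
set_option backward.isDefEq.respectTransparency false
set_option maxHeartbeats 1600000

universe u

open CategoryTheory CategoryTheory.Limits MonoidalCategory CartesianMonoidalCategory AlgebraicGeometry Opposite
open AlgSpLib Groth.Agent.QuotRep
open scoped MonObj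

noncomputable section

namespace Groth.Agent.MonoQuot

variable {S : Scheme.{u}} {G X : Over S} [GrpObj G] (a : AlgGrp.Action G X)

/-- The graph of the action. -/
abbrev graph : G ⊗ X ⟶ X ⊗ X := lift a.act (snd G X)

/-- The unit section of the graph. -/
abbrev unitSec : X ⟶ G ⊗ X := lift (1 : X ⟶ G) (𝟙 X)

theorem unitSec_graph : unitSec ≫ graph a = lift (𝟙 X) (𝟙 X) := by
  rw [graph, comp_lift, unitSec, lift_snd, act_one]

/-- The stabilizer is a pullback of the kernel pair. -/
theorem isPullback_stab : ∃ k : pullback (graph a) (lift (𝟙 X) (𝟙 X)) ⟶ pullback (graph a) (graph a),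
    IsPullback k (pullback.snd (graph a) (lift (𝟙 X) (𝟙 X))) (pullback.snd (graph a) (graph a)) unitSec := by
  refine ⟨pullback.lift (pullback.fst _ _) (pullback.snd _ _ ≫ unitSec)
    (by rw [Category.assoc, unitSec_graph]; exact pullback.condition), ?_⟩
  refine IsPullback.of_right (h₁₂ := pullback.fst (graph a) (graph a)) (v₁₃ := graph a) (h₂₂ := graph a) ?_
    (pullback.lift_snd _ _ _) (IsPullback.of_hasPullback _ _)
  rw [pullback.lift_fst, unitSec_graph]
  exact IsPullback.of_hasPullback _ _

theorem stab_w (T : Over S) (x : T ⟶ X) (k : T ⟶ G) :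
    lift k x ≫ graph a = x ≫ lift (𝟙 X) (𝟙 X) ↔ lift k x ≫ a.act = x := by
  constructor
  · intro e
    have := congrArg (· ≫ fst X X) e
    simpa [graph] using this
  · intro e
    refine CartesianMonoidalCategory.hom_ext _ _ ?_ ?_
    · simpa [graph] using e
    · simp [graph]

/-- The kernel pair is a pullback of the stabilizer. -/
theorem isPullback_kerPair : ∃ k : pullback (graph a) (graph a) ⟶ pullback (graph a) (lift (𝟙 X) (𝟙 X)),
    IsPullback k (pullback.snd (graph a) (graph a)) (pullback.snd (graph a) (lift (𝟙 X) (𝟙 X))) (snd G X) := by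
  let p₁ := pullback.fst (graph a) (graph a)
  let p₂ := pullback.snd (graph a) (graph a)
  let g := p₁ ≫ fst G X
  let h := p₂ ≫ fst G X
  let x := p₂ ≫ snd G X
  have hx : p₁ ≫ snd G X = x := by
    have := congrArg (· ≫ snd X X) (pullback.condition (f := graph a) (g := graph a))
    simpa [graph, x, p₁, p₂] using this
  have hact : lift g x ≫ a.act = lift h x ≫ a.act := by
    have := congrArg (· ≫ fst X X) (pullback.condition (f := graph a) (g := graph a))
    simp only [graph, Category.assoc, lift_fst] at this
    rw [show lift g x = p₁ by rw [← hx, ← comp_lift, lift_fst_snd, Category.comp_id],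
      show lift h x = p₂ by rw [← comp_lift, lift_fst_snd, Category.comp_id]]
    exact this
  have hk : lift (h⁻¹ * g) x ≫ a.act = x := by
    rw [act_mul, hact, ← act_mul, inv_mul_cancel, act_one]
  let k : pullback (graph a) (graph a) ⟶ pullback (graph a) (lift (𝟙 X) (𝟙 X)) :=
    pullback.lift (lift (h⁻¹ * g) x) x ((stab_w a _ x _).mpr hk)
  have hk2 : k ≫ pullback.snd _ _ = p₂ ≫ snd G X := pullback.lift_snd _ _ _
  refine ⟨k, ⟨⟨hk2⟩, ⟨PullbackCone.IsLimit.mk _ (fun c => pullback.lift
    (lift ((c.snd ≫ fst G X) * (c.fst ≫ pullback.fst _ _ ≫ fst G X)) (c.snd ≫ snd G X)) c.snd ?_) (fun c => ?_)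
    (fun c => pullback.lift_snd _ _ _) (fun c m h1 h2 => ?_)⟩⟩⟩
  · refine CartesianMonoidalCategory.hom_ext _ _ ?_ (by simp [graph])
    simp only [graph, Category.assoc, lift_fst]
    have hc := congrArg (c.fst ≫ ·) (pullback.condition (f := graph a) (g := lift (𝟙 X) (𝟙 X)))
    have hc' := congrArg (· ≫ fst X X) hc
    simp only [graph, Category.assoc, lift_fst, Category.comp_id] at hc'
    have hsnd : (c.fst ≫ pullback.fst (graph a) (lift (𝟙 X) (𝟙 X))) ≫ snd G X = c.snd ≫ snd G X := by
      have h' := congrArg (· ≫ snd X X) hc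
      simp only [graph, Category.assoc, lift_snd, Category.comp_id] at h'
      rw [Category.assoc]; exact h'.trans c.condition
    rw [act_mul, show lift (c.fst ≫ pullback.fst (graph a) _ ≫ fst G X) (c.snd ≫ snd G X) =
        c.fst ≫ pullback.fst (graph a) (lift (𝟙 X) (𝟙 X)) by
      rw [← hsnd, ← Category.assoc, ← comp_lift, lift_fst_snd, Category.comp_id], Category.assoc, hc',
      c.condition, ← comp_lift, lift_fst_snd, Category.comp_id]
  · apply pullback.hom_ext
    · simp only [k, Category.assoc, pullback.lift_fst, comp_lift]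
      refine CartesianMonoidalCategory.hom_ext _ _ ?_ ?_
      · simp only [lift_fst, MonObj.comp_mul, GrpObj.comp_inv, g, h, p₁, p₂, pullback.lift_fst_assoc,
          pullback.lift_snd_assoc, inv_mul_cancel_left, Category.assoc]
      · simp only [lift_snd, x, p₂, pullback.lift_snd_assoc, Category.assoc]
        have hc := congrArg (c.fst ≫ ·) (pullback.condition (f := graph a) (g := lift (𝟙 X) (𝟙 X)))
        have h' := congrArg (· ≫ snd X X) hc
        simp only [graph, Category.assoc, lift_snd, Category.comp_id] at h'
        exact (h'.trans c.condition).symm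
    · rw [Category.assoc, hk2, ← Category.assoc, pullback.lift_snd, c.condition]
  · apply pullback.hom_ext
    · rw [pullback.lift_fst]
      refine CartesianMonoidalCategory.hom_ext _ _ ?_ ?_
      · rw [lift_fst, ← h1, ← h2]
        simp only [k, g, h, p₁, p₂, Category.assoc, pullback.lift_fst_assoc, lift_fst, MonObj.comp_mul,
          GrpObj.comp_inv, mul_inv_cancel_left]
      · rw [lift_snd, ← h2, Category.assoc, Category.assoc]
        exact congrArg (m ≫ ·) hx
    · rw [pullback.lift_snd]; exact h2

end Groth.Agent.MonoQuot
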